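import Mathlib
import Cfsg.Agent.H946.ExcNum_m3
import Cfsg.Agent.H372.O8R.Ord_mg_m3
import Cfsg.Agent.H823.O8S.Main
import Cfsg.Agent.H826.RgF.Defs_m3
import Cfsg.Agent.H193.Dg.Orth
import Cfsg.Agent.H884.ElRows_m3
import Cfsg.Agent.H341.ThreeList_m3
import Cfsg.Agent.S0243
import Cfsg.Agent.S0813
import Cfsg.Agent.S0815
import Cfsg.Agent.ClassicalGeometry.PSL2Basic
import Cfsg.Agent.H59.O8S.Num_m3
import Cfsg.Agent.FastGrp
import Cfsg.Agent.Prune
set_option linter.all false
prune_inst 0x7fffe8fdbbbf3ddfdf7f7e77a69dcdfdffb8bfffa4dff9cbbfe221df2bdfeb98c9cd63ad0beb21fe1fc6c21c18ec7b43fbfffabfea6bf87ffffd1ff45ffbfe0ffdf7bd08719488340fbc2ff603f0778e7f3fffffffffffffffffffffffffffaeffbfffffffff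
open scoped Cfsg.Agent.FastGrp

-- part: H372/O8S/Schur
section
/-!
# Additive maps commuting with an element of primitive prime order (helper372, S3938-OPLUS8 O6)
-/

set_option autoImplicit false

namespace Cfsg.Agent.H372.O8S

open Cfsg.Agent.H436

section

variable {V : Type*} [AddCommGroup V] [Finite V] {p r N : ℕ} (hp : p.Prime) (hP : Prim p N r)
  (hV : Nat.card V = p ^ N) (X : V →+ V) (hX : ∀ v, X^[r] v = v) (hX1 : ∃ v, X v ≠ v)

include hp hP hV hX hX1

end

/-- in a finite field containing a field `K` with `q` elements: `z ^ q = z` only for `z ∈ K` -/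
theorem mem_range_of_pow {K E : Type*} [Field K] [Fintype K] [Field E] (s : K →+* E) {z : E}
    (hz : z ^ Fintype.card K = z) : ∃ τ : K, s τ = z := by
  classical
  by_contra hcon
  push Not at hcon
  have hq : 1 < Fintype.card K := Fintype.one_lt_card
  let P : Polynomial E := Polynomial.X ^ Fintype.card K - Polynomial.X
  have hP0 : P ≠ 0 := FiniteField.X_pow_card_sub_X_ne_zero E hq
  let Z : Finset E := insert z (Finset.univ.image s)
  have hZ : Z.card = Fintype.card K + 1 := by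
    rw [Finset.card_insert_of_notMem, Finset.card_image_of_injective _ s.injective, Finset.card_univ]
    rw [Finset.mem_image]
    rintro ⟨τ, -, h⟩
    exact hcon τ h
  have hsub : Z.val ⊆ P.roots := by
    intro w hw
    rw [Polynomial.mem_roots hP0, Polynomial.IsRoot.def, Polynomial.eval_sub, Polynomial.eval_pow, Polynomial.eval_X, sub_eq_zero]
    rcases Finset.mem_insert.1 hw with rfl | h
    · exact hz
    · obtain ⟨τ, -, rfl⟩ := Finset.mem_image.1 h
      rw [← map_pow, FiniteField.pow_card]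
  have h1 := Polynomial.card_le_degree_of_subset_roots hsub
  rw [hZ, FiniteField.X_pow_card_sub_X_natDegree_eq E hq] at h1
  omega

/-! ## invariant planes, characteristic 2 -/

open Module

section

variable {K V : Type*} [Field K] [AddCommGroup V] [Module K V] (B : V →ₗ[K] V →ₗ[K] K) (T : V →ₗ[K] V)

/-- pairwise orthogonal `T`-invariant nondegenerate planes `⟨u i, T (u i)⟩` -/
structure Pl {k : ℕ} (u : Fin k → V) : Prop where
  ne : ∀ i, B (u i) (T (u i)) ≠ 0
  o1 : ∀ i j, i ≠ j → B (u i) (u j) = 0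
  o2 : ∀ i j, i ≠ j → B (u i) (T (u j)) = 0

/-- the setting -/
structure Sit (τ : K) : Prop where
  two : (2 : K) = 0
  alt : ∀ v, B v v = 0
  sym : ∀ u v, B u v = B v u
  iso : ∀ u v, B (T u) (T v) = B u v
  quad : ∀ v, T (T v) = τ • T v + v
  tne : τ ≠ 0
  nd : ∀ v, (∀ w, B w v = 0) → v = 0

variable {B T} {τ : K} (h : Sit B T τ)

include h

theorem Sit.add_self (x : K) : x + x = 0 := by rw [← two_mul, h.two, zero_mul]

theorem Sit.left (u v : V) : B (T u) v = B u (T v) + τ * B u v := by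
  rw [← h.iso u (T v), h.quad, map_add, map_smul, smul_eq_mul, h.iso, add_right_comm, h.add_self, zero_add]

omit h in
/-- projection to the plane `⟨u, T u⟩` -/
noncomputable def pj (B : V →ₗ[K] V →ₗ[K] K) (T : V →ₗ[K] V) (u : V) : V →ₗ[K] V :=
  (B u (T u))⁻¹ • ((B.flip (T u)).smulRight u + (B.flip u).smulRight (T u))

variable {k : ℕ} {u : Fin k → V} (hu : Pl B T u)
include hu

omit hu

end

end Cfsg.Agent.H372.O8S
end

-- part: H823/O8R/Field
section
/-!
# S3691, row `PΩ⁺₈(q)`: quadratic fields normalised by a group with an element of order `r₆` are unitary (helper823)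
-/

set_option autoImplicit false
set_option linter.unusedSectionVars false

namespace Cfsg.Agent.H823.O8R

open Module QuadraticMap Cfsg Cfsg.Geo Cfsg.Agent.LieClassical.OrthCore Cfsg.Agent.H955 Cfsg.Agent.H954.TSing
open Cfsg.Agent.LieClassical.OmegaReindex
open Cfsg.Agent.H951 (fx cm Inv)
open Cfsg.Agent.H884.El
open Cfsg.Agent.H708.O8 (I8 T8 RB)
open Cfsg.Agent.H436 (Prim)
open Cfsg.Agent.H823.O8S
open scoped MatrixGroups Matrix

variable {F : Type} [Field F] [Fintype F]

/-- an irreducible quadratic polynomial -/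
theorem exists_irr (F : Type) [Field F] [Fintype F] : ∃ c d : F, ∀ z : F, z * z - c * z + d ≠ 0 := by
  obtain ⟨α, β, h⟩ := H955.exists_aniso_coeff F
  refine ⟨-α, β, fun z hz => ?_⟩
  exact one_ne_zero (h z 1 (by linear_combination hz)).2

/-- the `q`-th power of a root in a field of order `q²` -/
theorem root_pow {K : Subalgebra F (Matrix I8 I8 F)} (hK : IsFieldSubalgebra 2 K) {c d : F}
    (hirr : ∀ z : F, z * z - c * z + d ≠ 0) {j : Matrix I8 I8 F} (hj : j ∈ K) (hj2 : j * j = c • j - d • (1 : Matrix I8 I8 F)) :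
    j ^ (Fintype.card F ^ 3) = c • (1 : Matrix I8 I8 F) - j := by
  let _ : Field K := (H912.isField_of_fieldSub hK).toField
  have hKfin : Finite K := Module.finite_of_finite F
  let φ : K →ₐ[F] K := (FiniteField.frobeniusAlgHom F K :)
  have hφ : ∀ x : K, φ x = x ^ Fintype.card F := fun x => rfl
  let J : K := ⟨j, hj⟩
  have hJ : J * J = c • J - d • (1 : K) := Subtype.ext hj2
  have h1 : φ J * φ J = c • φ J - d • (1 : K) := by
    simp only [← map_mul, hJ, map_sub, map_smul, map_smul, map_one]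
  have h2 : (φ J - J) * (φ J + J - c • (1 : K)) = 0 := by
    rw [Algebra.smul_def, Algebra.smul_def, mul_one] at h1 hJ
    rw [Algebra.smul_def, mul_one]
    linear_combination h1 - hJ
  have h3 : φ J = c • (1 : K) - J := by
    rcases mul_eq_zero.1 h2 with h4 | h4
    · exfalso
      have h5 : J ^ Fintype.card F = J := sub_eq_zero.1 h4
      obtain ⟨z, hz⟩ := H372.O8S.mem_range_of_pow (algebraMap F K) h5
      simp only [← hz, Algebra.smul_def, Algebra.smul_def, mul_one, ← map_mul, ← map_mul, ← map_sub] at hJ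
      exact hirr z (by rw [(algebraMap F K).injective hJ]; ring)
    · rw [eq_sub_iff_add_eq]
      exact sub_eq_zero.1 h4
  have h4 : J ^ (Fintype.card F ^ 3) = c • (1 : K) - J := by
    have h5 : J ^ (Fintype.card F ^ 3) = φ (φ (φ J)) := by
      rw [hφ, hφ, hφ, ← pow_mul, ← pow_mul]
      congr 1
      ring
    simp only [h5, h3, map_sub, map_smul, map_one, h3, sub_sub_cancel, h3]
  have h5 := congrArg Subtype.val h4
  rw [SubmonoidClass.coe_pow] at h5
  exact h5

theorem polar_sub_right8 (u v v' : I8 → F) : polar (quadFormPlus 4 F) u (v - v') =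
    polar (quadFormPlus 4 F) u v - polar (quadFormPlus 4 F) u v' := by
  rw [← coe_quadPlus]
  exact polar_sub_right (quadPlus 4 F) u v v'

theorem polar_smul_right8 (c : F) (u v : I8 → F) : polar (quadFormPlus 4 F) u (c • v) =
    c * polar (quadFormPlus 4 F) u v := by
  rw [← coe_quadPlus, ← smul_eq_mul]
  exact polar_smul_right (quadPlus 4 F) c u v

theorem q_smul8 (c : F) (v : I8 → F) : quadFormPlus 4 F (c • v) = c * c * quadFormPlus 4 F v := by
  rw [← coe_quadPlus, QuadraticMap.map_smul, smul_eq_mul]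

theorem q_add8 (u v : I8 → F) : quadFormPlus 4 F (u + v) = quadFormPlus 4 F u + quadFormPlus 4 F v +
    polar (quadFormPlus 4 F) u v := by
  rw [polar]; ring

/-- the data of an element of order `r₆` -/
structure Six (z : GL I8 F) (s : ℕ) : Prop where
  pp : PP (Nat.card F) 6 s
  pow : z ^ s = 1
  ne : z ≠ 1
  iso : ∀ v, quadFormPlus 4 F (lin z v) = quadFormPlus 4 F v

namespace Six

variable {z : GL I8 F} {s : ℕ}

theorem data (h : Six z s) : fx (lin z) ⊔ cm (lin z) = ⊤ ∧ finrank F (cm (lin z)) = 6 ∧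
    (∀ W : Submodule F (I8 → F), _root_.Cfsg.Agent.H951.Inv (lin z) W → W ≤ fx (lin z) ∨ cm (lin z) ≤ W) ∧
      ∀ U ≤ cm (lin z), _root_.Cfsg.Agent.H951.Inv (lin z) U → U = ⊥ ∨ U = cm (lin z) :=
  H449.Reg.elt_data h.pp (by norm_num) (by rw [card_I8']; norm_num) (by
    rw [← H251.GeoCard.toLin_pow, h.pow]; exact lin_one) (lin_ne_one h.ne)
where
  card_I8' : Fintype.card I8 = 8 := by simp

theorem nontriv (h : Six z s) : ∃ v ∈ cm (lin z), v ≠ 0 := by
  refine (Submodule.ne_bot_iff _).1 fun h0 => ?_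
  have := h.data.2.1
  rw [h0, finrank_bot] at this
  omega

theorem perp (h : Six z s) {u v : I8 → F} (hu : u ∈ fx (lin z)) (hv : v ∈ cm (lin z)) :
    polar (quadFormPlus 4 F) u v = 0 := polar_cm_fx h.iso hu hv

end Six

theorem pow_q3 {z : GL I8 F} {s : ℕ} (h : Six z s) : (lin z) ^ (Fintype.card F ^ 3 + 1) = 1 := by
  have h1 : s ∣ Fintype.card F ^ 3 + 1 := by
    have hq : 1 ≤ Nat.card F := Nat.card_pos
    have h2 := (h.pp.dvd_iff hq 6).2 (dvd_refl 6)
    have h3 : ¬ s ∣ Nat.card F ^ 3 - 1 := fun h4 => absurd ((h.pp.dvd_iff hq 3).1 h4) (by norm_num)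
    have h4 : Nat.card F ^ 6 - 1 = (Nat.card F ^ 3 + 1) * (Nat.card F ^ 3 - 1) := by
      have h5 := Nat.sq_sub_sq (Nat.card F ^ 3) 1
      rw [one_pow, ← pow_mul] at h5
      exact h5
    rw [h4] at h2
    rw [← Nat.card_eq_fintype_card]
    exact (h.pp.prime.dvd_mul.1 h2).resolve_right h3
  obtain ⟨m, hm⟩ := h1
  rw [hm, ← lin_pow, pow_mul, h.pow, one_pow, lin_one]

/-- **`F[J]` is unitary** -/
theorem fixJ_of_field {H : Subgroup (GL I8 F)} (hH : H ≤ isometryGroup F (quadFormPlus 4 F))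
    (hirr : ActsIrreducibly (matrixSet H)) {s : ℕ} (hs : PP (Nat.card F) 6 s) (hd : s ∣ Nat.card H)
    {K : Subalgebra F (Matrix I8 I8 F)} (hK : IsFieldSubalgebra 2 K)
    (hadj : IsAdjointClosedFor (polar (quadFormPlus 4 F)) K) (hHK : H ≤ subalgebraNormalizer K) :
    ∃ (J : Module.End F (I8 → F)) (c d : F), Fld J c d ∧ H ≤ NJ J c := by
  have hne : Nonempty I8 := ⟨Sum.inl 0⟩
  have hH' : H ≤ isometryGroup F (⇑(quadPlus 4 F)) := by rw [coe_quadPlus]; exact hH
  obtain ⟨c, d, hcd⟩ := exists_irr F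
  obtain ⟨j, hj, hj2⟩ := exists_root hK hcd
  have hjq := root_pow hK hcd hj hj2
  obtain ⟨J, hJ⟩ : ∃ J : Module.End F (I8 → F), J = Matrix.toLin' j := ⟨_, rfl⟩
  have hJv : ∀ v, J v = Matrix.toLin' j v := fun v => by rw [hJ]
  have hJJ : ∀ v, J (J v) = c • J v - d • v := by
    intro v
    rw [hJv, hJv, ← matl, hj2, map_sub, _root_.LinearEquiv.map_smul, _root_.LinearEquiv.map_smul, Matrix.toLin'_one]
    rfl
  have hKz : ∀ m ∈ K, ∀ v, v ≠ 0 → Matrix.toLin' m v = 0 → m = 0 := by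
    intro m hm v hv hmv
    by_contra hne
    obtain ⟨n, hn, hmn⟩ := hK.inv m hm hne
    rw [hK.comm m hm n hn] at hmn
    apply hv
    have h1 : v = Matrix.toLin' (n * m) v := by rw [hmn, Matrix.toLin'_one]; rfl
    rw [h1, matl, hmv, map_zero]
  have hs2 : s ≠ 2 := by
    have := hs.lt (by norm_num)
    omega
  -- elements of order `s`
  have hcomm : ∀ z ∈ H, Six z s → ∀ v, J (lin z v) = lin z (J v) := by
    intro z hz h v
    have h1 := comm_field Nat.prime_two hK (hHK hz) hs.prime hs2 h.pow j hj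
    rw [hJv, hJv, lin, ← matl, ← matl, h1]
  obtain ⟨z, hzH, hziso, hzs, hz1⟩ := exists_elt hH' hs (by norm_num) hd
  have hz : Six z s := ⟨hs, hzs, hz1, by rw [← coe_quadPlus]; exact hziso.iso⟩
  -- the adjoint of `J`
  have hadj1 : ∀ u ∈ cm (lin z), ∀ v ∈ cm (lin z), polar (quadFormPlus 4 F) (J u) v =
      polar (quadFormPlus 4 F) u (c • v - J v) := by
    intro u hu v hv
    have h1 := H449.Reg.bil_adj (B := polarBilin (quadPlus 4 F)) (z := lin z) (J := J) (U := cm (lin z))
      (fun u w => by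
        rw [polarBilin_apply_apply, polarBilin_apply_apply, coe_quadPlus]
        exact polar_iso' hz.iso u w) (h := 3) (pow_q3 hz) H951.inv_cm (fun W hW hWi => hz.data.2.2.2 W hW hWi)
      (fun u hu => pres_cm (hcomm z hzH hz) hu) (hcomm z hzH hz) hu hv
    rw [polarBilin_apply_apply, polarBilin_apply_apply, coe_quadPlus] at h1
    rw [h1]
    congr 1
    rw [hJ, ← Matrix.toLin'_pow, hjq, map_sub, _root_.LinearEquiv.map_smul, Matrix.toLin'_one]
    rfl
  obtain ⟨j', hj', hadj2⟩ := hadj j hj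
  have hj'e : j' = c • (1 : Matrix I8 I8 F) - j := by
    obtain ⟨v, hv, hv0⟩ := hz.nontriv
    have h1 : j' - (c • (1 : Matrix I8 I8 F) - j) ∈ K := K.sub_mem hj' (K.sub_mem (K.smul_mem K.one_mem c) hj)
    refine sub_eq_zero.1 (hKz _ h1 v hv0 ?_)
    have hcz : ∀ v, Matrix.toLin' (j' - (c • (1 : Matrix I8 I8 F) - j)) (lin z v) =
        lin z (Matrix.toLin' (j' - (c • (1 : Matrix I8 I8 F) - j)) v) := by
      intro v
      have h1 := comm_field Nat.prime_two hK (hHK hzH) hs.prime hs2 hz.pow _ h1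
      rw [lin, ← matl, ← matl, h1]
    refine nondeg8 fun u => ?_
    have h2 : u ∈ fx (lin z) ⊔ cm (lin z) := by rw [hz.data.1]; exact Submodule.mem_top
    obtain ⟨u1, hu1, u2, hu2, rfl⟩ := Submodule.mem_sup.1 h2
    rw [polar_add_left8, hz.perp hu1 (pres_cm hcz hv), zero_add, map_sub, LinearMap.sub_apply, polar_sub_right8]
    have h3 : polar (quadFormPlus 4 F) u2 (Matrix.toLin' j' v) = polar (quadFormPlus 4 F) (J u2) v := by
      rw [hJv, Matrix.toLin'_apply, Matrix.toLin'_apply]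
      exact (hadj2 u2 v).symm
    rw [h3, hadj1 u2 hu2 v hv, map_sub, _root_.LinearEquiv.map_smul, Matrix.toLin'_one, ← hJ]
    exact sub_self _
  have hadj3 : ∀ u v, polar (quadFormPlus 4 F) (J u) v = polar (quadFormPlus 4 F) u (c • v - J v) := by
    intro u v
    have h1 := hadj2 u v
    rw [hJv, Matrix.toLin'_apply, h1, hj'e, hJv, Matrix.toLin'_apply, Matrix.sub_mulVec, Matrix.smul_mulVec, Matrix.one_mulVec]
  have hJP : ∀ u v, polar (quadFormPlus 4 F) (J u) (J v) = d * polar (quadFormPlus 4 F) u v := by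
    intro u v
    rw [hadj3, hJJ, sub_sub_cancel, polar_smul_right8]
  -- the subspace of the vectors with `Q (J v) = d Q v`
  let N : Submodule F (I8 → F) :=
    { carrier := {v | quadFormPlus 4 F (J v) = d * quadFormPlus 4 F v}
      add_mem' := by
        intro u v hu hv
        rw [Set.mem_ofPred_eq] at hu hv ⊢
        rw [map_add, q_add8, q_add8, hu, hv, hJP]
        ring
      zero_mem' := by
        rw [Set.mem_ofPred_eq, map_zero, ← coe_quadPlus, QuadraticMap.map_zero, mul_zero]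
      smul_mem' := by
        intro e v hv
        rw [Set.mem_ofPred_eq] at hv ⊢
        rw [map_smul, q_smul8, q_smul8, hv]
        ring }
  have hN : ∀ v, v ∈ N ↔ quadFormPlus 4 F (J v) = d * quadFormPlus 4 F v := fun v => Iff.rfl
  have hNcard : Nat.card (I8 → F) ≤ Nat.card N * Nat.card F := by
    let φ : (I8 → F) →+ F :=
      { toFun := fun v => quadFormPlus 4 F (J v) - d * quadFormPlus 4 F v
        map_zero' := by rw [map_zero, ← coe_quadPlus, QuadraticMap.map_zero, mul_zero, sub_zero]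
        map_add' := fun u v => by
          rw [map_add, q_add8, q_add8, hJP]
          ring }
    have h1 : Nat.card (I8 → F) = Nat.card φ.ker * Nat.card φ.range := by
      rw [← AddSubgroup.card_mul_index φ.ker, AddSubgroup.index_ker]
    have h2 : Nat.card φ.ker = Nat.card N := by
      refine Nat.card_congr (Equiv.subtypeEquivRight fun v => ?_)
      rw [AddMonoidHom.mem_ker]
      exact sub_eq_zero
    rw [h1, h2]
    exact Nat.mul_le_mul_left _ (Nat.card_le_card_of_injective (Subtype.val : φ.range → F) Subtype.val_injective)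
  have hNz : ∀ z ∈ H, Six z s → cm (lin z) ≤ N := by
    intro z hz h
    have h1 : _root_.Cfsg.Agent.H951.Inv (lin z) N := by
      intro v hv
      rw [hN] at hv ⊢
      rw [hcomm z hz h, h.iso, h.iso, hv]
    rcases h.data.2.2.1 N h1 with h2 | h2
    · exfalso
      have h3 : finrank F N ≤ 2 := by
        have h4 := Submodule.finrank_mono h2
        have h5 : finrank F (fx (lin z)) + finrank F (cm (lin z)) = 8 := by
          have h6 := H951.isCompl_fx_cm (h.pp.ne0 (by norm_num)) (x := lin z) (r := s) (by rw [← lin_pow, h.pow, lin_one])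
          have h7 := Submodule.finrank_add_eq_of_isCompl h6
          rw [h7, Module.finrank_fintype_fun_eq_card]
          simp
        rw [h.data.2.1] at h5
        omega
      have hq : 1 < Nat.card F := Finite.one_lt_card
      have h4 : Nat.card N = Nat.card F ^ finrank F N := Module.natCard_eq_pow_finrank
      have h5 : Nat.card (I8 → F) = Nat.card F ^ 8 := by
        rw [Module.natCard_eq_pow_finrank (K := F), Module.finrank_fintype_fun_eq_card]
        simp
      rw [h4, h5, ← pow_succ] at hNcard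
      have h6 := (Nat.pow_le_pow_iff_right hq).1 hNcard
      omega
    · exact h2
  -- `N` is everything
  have hNtop : N = ⊤ := by
    let M : Submodule F (I8 → F) := ⨆ z : {z : GL I8 F // z ∈ H ∧ Six z s}, cm (lin z.1)
    have hM : ∀ m ∈ matrixSet H, M.map (Matrix.toLin' m) ≤ M := by
      rintro _ ⟨g, hg, rfl⟩
      rw [Submodule.map_iSup]
      refine iSup_le fun y => ?_
      obtain ⟨y, hy, hyS⟩ := y
      have h1 : Six (g * y * g⁻¹) s := by
        refine ⟨hs, ?_, ?_, ?_⟩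
        · rw [conj_pow, hyS.pow, mul_one, mul_inv_cancel]
        · intro h0
          apply hyS.ne
          have h2 : y = g⁻¹ * (g * y * g⁻¹) * g := by group
          rw [h2, h0]
          group
        · intro v
          rw [lin_mul_apply, lin_mul_apply, iso_of_mem (hH hg), hyS.iso, iso_of_mem (hH (H.inv_mem hg))]
      refine le_trans ?_ (le_iSup (fun z : {z : GL I8 F // z ∈ H ∧ Six z s} => cm (lin z.1))
        ⟨g * y * g⁻¹, H.mul_mem (H.mul_mem hg hy) (H.inv_mem hg), h1⟩)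
      rintro _ ⟨v, hv, rfl⟩
      obtain ⟨w, rfl⟩ := H951.mem_cm.1 hv
      refine H951.mem_cm.2 ⟨lin g w, ?_⟩
      rw [lin_mul_apply, lin_mul_apply, lin_inv_apply, map_sub]
    have h2 : M ≤ N := iSup_le fun y => hNz y.1 y.2.1 y.2.2
    rcases hirr M hM with h3 | h3
    · exfalso
      obtain ⟨v, hv, hv0⟩ := hz.nontriv
      have h4 : v ∈ M := Submodule.mem_iSup_of_mem ⟨z, hzH, hz⟩ hv
      rw [h3, Submodule.mem_bot] at h4
      exact hv0 h4
    · rw [eq_top_iff, ← h3]
      exact h2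
  refine ⟨J, c, d, ⟨LinearMap.ext hJJ, hcd, fun v => ?_⟩, ?_⟩
  · have h1 : v ∈ N := by rw [hNtop]; exact Submodule.mem_top
    exact h1
  · intro g hg
    have h2 : (g : Matrix I8 I8 F) * j * ((g⁻¹ : GL I8 F) : Matrix I8 I8 F) ∈ K := ((hHK hg) j).1 hj
    have hgi : ((g⁻¹ : GL I8 F) : Matrix I8 I8 F) * (g : Matrix I8 I8 F) = 1 := by
      rw [← Units.val_mul, inv_mul_cancel, Units.val_one]
    have hgi' : (g : Matrix I8 I8 F) * ((g⁻¹ : GL I8 F) : Matrix I8 I8 F) = 1 := by
      rw [← Units.val_mul, mul_inv_cancel, Units.val_one]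
    obtain ⟨m, hm⟩ : ∃ m, m = (g : Matrix I8 I8 F) * j * ((g⁻¹ : GL I8 F) : Matrix I8 I8 F) := ⟨_, rfl⟩
    rw [← hm] at h2
    have hmg : m * (g : Matrix I8 I8 F) = (g : Matrix I8 I8 F) * j := by
      rw [hm, Matrix.mul_assoc, hgi, Matrix.mul_one]
    have hm2 : m * m = c • m - d • (1 : Matrix I8 I8 F) := by
      have h3 : m * m = (g : Matrix I8 I8 F) * (j * j) * ((g⁻¹ : GL I8 F) : Matrix I8 I8 F) := by
        rw [hm]
        calc (g : Matrix I8 I8 F) * j * ((g⁻¹ : GL I8 F) : Matrix I8 I8 F) * ((g : Matrix I8 I8 F) * j *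
              ((g⁻¹ : GL I8 F) : Matrix I8 I8 F)) = (g : Matrix I8 I8 F) * j * (((g⁻¹ : GL I8 F) : Matrix I8 I8 F) *
              (g : Matrix I8 I8 F)) * j * ((g⁻¹ : GL I8 F) : Matrix I8 I8 F) := by simp only [Matrix.mul_assoc]
          _ = _ := by rw [hgi, Matrix.mul_one]; simp only [Matrix.mul_assoc]
      rw [h3, hj2, Matrix.mul_sub, Matrix.sub_mul, Matrix.mul_smul, Matrix.smul_mul, ← hm, Matrix.mul_smul,
        Matrix.mul_one, Matrix.smul_mul, hgi']
    have h4 : (m - j) * (m + j - c • (1 : Matrix I8 I8 F)) = 0 := by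
      have h5 := hK.comm m h2 j hj
      calc (m - j) * (m + j - c • (1 : Matrix I8 I8 F)) = (m * m - c • m) - (j * j - c • j) + (m * j - j * m) := by
            simp only [Matrix.sub_mul, Matrix.mul_sub, Matrix.mul_add, Matrix.mul_smul, Matrix.mul_one, smul_sub]
            abel
        _ = 0 := by rw [hm2, hj2, h5]; abel
    have hgv : ∀ v, lin g (J v) = Matrix.toLin' m (lin g v) := by
      intro v
      rw [hJv, lin, ← matl, ← matl, hmg]
    by_cases h5 : m - j = 0
    · left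
      intro v
      rw [hgv, sub_eq_zero.1 h5, hJv]
    · right
      intro v
      obtain ⟨n, hn, hmn⟩ := hK.inv _ (K.sub_mem h2 hj) h5
      rw [hK.comm _ (K.sub_mem h2 hj) n hn] at hmn
      have h6 : m + j - c • (1 : Matrix I8 I8 F) = 0 := by
        have h7 := congrArg (fun y => n * y) h4
        beta_reduce at h7
        rwa [← Matrix.mul_assoc, hmn, Matrix.one_mul, Matrix.mul_zero] at h7
      have h8 : m = c • (1 : Matrix I8 I8 F) - j := by
        rw [eq_sub_iff_add_eq]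
        exact sub_eq_zero.1 h6
      rw [hgv, h8, map_sub, _root_.LinearEquiv.map_smul, Matrix.toLin'_one, LinearMap.sub_apply, hJv]
      rfl

end Cfsg.Agent.H823.O8R
end

-- part: H823/O8R/Geo
section
/-!
# S3691, row `PΩ⁺₈(q)`: (G6), the geometric classes of the groups of order divisible by `s ^ k`, `s = r₆` (helper823)
-/

set_option autoImplicit false
set_option linter.unusedSectionVars false

namespace Cfsg.Agent.H823.O8R

open Module QuadraticMap Cfsg Cfsg.Geo Cfsg.Agent.LieClassical.OrthCore Cfsg.Agent.H955 Cfsg.Agent.H954.TSing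
open Cfsg.Agent.LieClassical.OmegaReindex
open Cfsg.Agent.H951 (fx cm Inv)
open Cfsg.Agent.H884.El
open Cfsg.Agent.H708.O8 (I8 T8 RB)
open Cfsg.Agent.H436 (Prim)
open Cfsg.Agent.H823.O8S
open scoped MatrixGroups Matrix

variable {F : Type} [Field F] [Fintype F] {p a s k : ℕ}

theorem ppF (hF : Nat.card F = p ^ a) (h : RK p a s k) : PP (Nat.card F) 6 s := by
  rw [hF]
  refine PP.of_pow ?_ h.ha
  rw [mul_comm]
  exact prim_pp h.hp.one_le h.prim

/-- the Sylow `s`-subgroups of `PΩ⁺₈(q)` are cyclic -/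
theorem cyc_six (hs : PP (Nat.card F) 6 s) (R : Subgroup (T8 F)) (P : Subgroup R) (hP : IsPGroup s P) : IsCyclic P := by
  have h1 : ∀ f : (I8 → F) → F, ⇑(quadPlus 4 F) = f → ∀ R : Subgroup (POmega F f), H851.Dg.CycP s R := by
    rintro _ rfl R
    exact (by with_reducible_and_instances exact (
          H193.Dg.cycP_of (Q := quadPlus 4 F) (M := R) hs (by norm_num) (fun g _ hgr hg1 =>
      (H449.Reg.elt_data hs (by norm_num) (by simp) (by
        rw [← H251.GeoCard.toLin_pow, hgr]; exact lin_one) (lin_ne_one hg1)).2.1)))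
  exact h1 _ (coe_quadPlus 4 F) R P hP

seal _root_.Finset.sum _root_.dotProduct in
/-- an element of order `s ^ k` -/
theorem exists_pow_six (hs : PP (Nat.card F) 6 s) {R : Subgroup (T8 F)} {k : ℕ} (hd : s ^ k ∣ Nat.card R) :
    ∃ x : R, orderOf x = s ^ k := by
  have := Fact.mk hs.prime
  (have h_ob : Nonempty (Sylow s R) := inferInstance
   revert h_ob; rintro (⟨S⟩))
  have hcS : IsCyclic S := (cyc_six hs R S S.2 :)
  (have h_ob := IsCyclic.exists_generator (α := S)
   revert h_ob; rintro (⟨g, hg⟩))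
  have hos : orderOf g = Nat.card S := by
    simp only [← Nat.card_zpowers]
    have : Subgroup.zpowers g = ⊤ := by
      rw [eq_top_iff]; intro z _; exact hg z
    simp only [this, Subgroup.card_top]
  (have h_ob : s ^ k ∣ Nat.card S := S.pow_dvd_card_of_pow_dvd_card hd
   revert h_ob; rintro (⟨c, hc⟩))
  have hpos : 0 < Nat.card S := Nat.card_pos
  have hc0 : c ≠ 0 := by rintro rfl; omega
  refine ⟨((g ^ c : S) : R), ?_⟩
  rw [Subgroup.orderOf_coe, orderOf_pow_of_dvd hc0 (by rw [hos, hc]; exact Dvd.intro_left _ rfl), hos, hc,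
    Nat.mul_div_cancel _ (Nat.pos_of_ne_zero hc0)]

theorem Six.isoQ {z : GL I8 F} (h : Six z s) : Iso (quadPlus 4 F) (lin z) s :=
  Iso.mk' h.pp (by norm_num) (by rw [← lin_pow, h.pow, lin_one]) (by rw [coe_quadPlus]; exact h.iso)

theorem finrank8 : finrank F (I8 → F) = 8 := by
  rw [Module.finrank_fintype_fun_eq_card]
  simp

/-- the geometry of an element of order `r₆` -/
theorem Six.plane {z : GL I8 F} (h : Six z s) : finrank F (fx (lin z)) = 2 ∧
    (∀ w ∈ fx (lin z), quadFormPlus 4 F w = 0 → w = 0) := by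
  have hQ : Nondeg (quadPlus 4 F) := nondeg_iff.2 quadPlus_nondegenerate
  have hiso := h.isoQ
  have h8 : finrank F (I8 → F) = 8 := finrank8
  obtain ⟨hcm, hcmP⟩ := hiso.even_case hQ (lin_ne_one h.ne) h.pp (by decide) (by rw [h8]; norm_num)
  have hadd := hiso.finrank_add
  have hfx : finrank F ↥(fx (lin z)) = 2 := by
    rw [hcm, h8] at hadd
    generalize finrank F ↥(fx (lin z)) = n at hadd
    omega
  have hfxP : ¬ IsPlus (res (quadPlus 4 F) (fx (lin z))) := by
    intro h1
    have h5 := (hiso.isPlus_fx hQ (by rw [h8]; decide) (by rw [hcm]; decide)).1 (isPlus_quadPlus 4)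
    exact hcmP (h5.2 h1)
  exact ⟨hfx, fun w hw h0 => aniso_of_not_plus hfx hfxP hw (by rw [coe_quadPlus]; exact h0)⟩

theorem le_SW_of_stab {H : Subgroup (GL I8 F)} {W : Submodule F (I8 → F)} (h : H ≤ subspaceStabilizer W) : H ≤ SW W :=
  le_SW fun _ hg w hw => inv_of_mem (h hg) w hw

/-- no group of order divisible by `s ^ k` normalises a group of symplectic type -/
theorem symp_kill' (hF : Nat.card F = p ^ a) (h : RK p a s k) {H : Subgroup (GL I8 F)}
    (hN : s ^ k ∣ Nat.card H) (hS : SympT H) : False := by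
  have hne : Nonempty I8 := ⟨Sum.inl 0⟩
  have hfin : Finite (GL I8 F) := inferInstance
  obtain ⟨R, hRH, hHR, habs, hR, ht⟩ := hS
  obtain ⟨C⟩ := H708.O8.exists_coord_of habs hR (m := 3) (by norm_num) (by rw [card_I8]; norm_num) ht
  have h1 := H708.O8.card_dvd_of_coord Nat.prime_two habs C hHR
  have hr := h.prim.prime
  have h7 := h.seven
  have hc1 : Nat.Coprime (s ^ k) (Nat.card R) := by
    obtain ⟨n, hn⟩ : ∃ n, Nat.card R = 2 ^ n := by
      rcases ht with h1 | h1 | h1
      · exact ⟨_, h1.2.2⟩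
      · exact ⟨_, h1.2.2⟩
      · exact ⟨_, h1.2.2⟩
    rw [hn]
    exact Nat.Coprime.pow _ _ ((Nat.coprime_primes hr Nat.prime_two).2 (by omega))
  have hc2 : Nat.Coprime (s ^ k) (Nat.card F - 1) := by
    apply Nat.Coprime.pow_left
    rw [hr.coprime_iff_not_dvd, hF, h.prim.dvd_iff]
    intro h1
    have h2 := Nat.le_of_dvd h.ha h1
    have h3 := h.ha
    omega
  have h2 := (Nat.Coprime.mul_right hc1 hc2).dvd_of_dvd_mul_left (hN.trans h1)
  rw [LieClassical.SympCount.card_symplecticGroup, ZMod.card] at h2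
  have h3 : (2 : ℕ) ^ (3 ^ 2) * ∏ i ∈ Finset.range 3, (2 ^ (2 * (i + 1)) - 1) = 2 ^ 9 * 3 ^ 4 * (5 * 7) := by decide
  rw [h3] at h2
  have c2 : Nat.Coprime (s ^ k) (2 ^ 9) := Nat.Coprime.pow _ _ ((Nat.coprime_primes hr Nat.prime_two).2 (by omega))
  have c3 : Nat.Coprime (s ^ k) (3 ^ 4) := Nat.Coprime.pow _ _ ((Nat.coprime_primes hr Nat.prime_three).2 (by omega))
  have h4 := (Nat.Coprime.mul_right c2 c3).dvd_of_dvd_mul_left h2
  rcases h.cases with ⟨h5, rfl⟩ | ⟨rfl, rfl⟩
  · rw [pow_one] at h4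
    rcases hr.dvd_mul.1 h4 with h6 | h6
    · have := Nat.le_of_dvd (by norm_num) h6
      omega
    · have := Nat.le_of_dvd (by norm_num) h6
      omega
  · norm_num at h4

/-- **(G6)** -/
theorem g6 (hF : Nat.card F = p ^ a) (h : RK p a s k) {R : Subgroup (T8 F)} (hd : s ^ k ∣ Nat.card R) :
    FixV R ∨ FixP R ∨ FixJ R ∨ InOrthogonalResidualClass (pre (quadFormPlus 4 F) R) := by
  have hne : Nonempty I8 := ⟨Sum.inl 0⟩
  have hfin : Finite (GL I8 F) := inferInstance
  obtain ⟨H, hHR⟩ : ∃ H, H = pre (quadFormPlus 4 F) R := ⟨_, rfl⟩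
  have hH : H ≤ isometryGroup F (quadFormPlus 4 F) := by
    rw [hHR]
    exact H884.El.pre_le (Q := quadFormPlus 4 F) (M := R)
  have hH' : H ≤ isometryGroup F (⇑(quadPlus 4 F)) := by rw [coe_quadPlus]; exact hH
  have hs := ppF hF h
  have hdH : s ^ k ∣ Nat.card H := by
    rw [hHR]
    exact hd.trans card_dvd_pre
  have hk : k ≠ 0 := by
    rcases h.cases with h1 | h1 <;> omega
  have hsH : s ∣ Nat.card H := (dvd_pow_self s hk).trans hdH
  obtain ⟨z, hzH, hziso, hzs, hz1⟩ := exists_elt hH' hs (by norm_num) hsH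
  have hz : Six z s := ⟨hs, hzs, hz1, by rw [← coe_quadPlus]; exact hziso.iso⟩
  obtain ⟨hz2, hz0⟩ := hz.plane
  have h7 : 6 < s := hs.lt (by norm_num)
  have hND : IsNondegenerateQuadraticForm (⇑(quadPlus 4 F)) :=
    Cfsg.Agent.H884.OddForm.isNondegenerate_of_nondeg (quadPlus 4 F) (nondeg_iff.2 quadPlus_nondegenerate)
  rw [← hHR]
  unfold FixV FixP FixJ
  rw [← hHR]
  by_cases hirr : ActsIrreducibly (matrixSet H)
  swap
  · rcases Cfsg.Agent.H925.reducible_cases hND hH' hirr with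
      ⟨W, hW0, hWs, hHW⟩ | ⟨W, hW0, hWn, hdW, hHW⟩ | ⟨-, v, hv, hHW⟩
    · exfalso
      have h1 : W ≤ fx (lin z) := hz.isoQ.ts_le (nondeg_iff.2 quadPlus_nondegenerate) (lin_ne_one hz.ne) hz.pp
        hz.data.2.1 (inv_of_mem (hHW hzH)) hWs
      apply hW0
      rw [Submodule.eq_bot_iff]
      intro w hw
      refine hz0 w (h1 hw) ?_
      have h2 := hWs w hw
      rwa [coe_quadPlus] at h2
    · obtain ⟨n, hn⟩ : ∃ n, n = finrank F ↥W := ⟨_, rfl⟩
      have hdW' : 2 * n ≤ 8 := by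
        rw [hn]
        exact hdW.trans (le_of_eq card_I8)
      have h1 : W ≤ fx (lin z) := by
        rcases hz.data.2.2.1 W (inv_of_mem (hHW hzH)) with h1 | h1
        · exact h1
        · exfalso
          have h2 := Submodule.finrank_mono h1
          rw [hz.data.2.1, ← hn] at h2
          omega
      have h2 := Submodule.finrank_mono h1
      rw [hz2, ← hn] at h2
      have h3 : n ≠ 0 := fun h => hW0 (Submodule.finrank_eq_zero.1 (hn.symm.trans h))
      by_cases hW1 : finrank F W = 1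
      · left
        obtain ⟨v, hv0, hspan⟩ := finrank_eq_one_iff'.1 hW1
        have hWs : W = Submodule.span F {(v : I8 → F)} := by
          apply le_antisymm
          · intro w hw
            obtain ⟨c, hc⟩ := hspan ⟨w, hw⟩
            exact Submodule.mem_span_singleton.2 ⟨c, congrArg Subtype.val hc⟩
          · rw [Submodule.span_singleton_le_iff_mem]
            exact v.2
        refine ⟨v, fun h0 => hv0 (Subtype.ext (hz0 _ (h1 v.2) h0)), ?_⟩
        rw [← hWs]
        exact le_SW_of_stab hHW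
      · right; left
        refine ⟨W, ?_, fun w hw h0 => hz0 w (h1 hw) h0, le_SW_of_stab hHW⟩
        rw [← hn] at hW1 ⊢
        omega
    · left
      refine ⟨v, ?_, le_SW_of_stab hHW⟩
      rwa [coe_quadPlus] at hv
  have h49 : s = 7 → k = 2 := fun h1 => by
    rcases h.cases with h2 | h2
    · omega
    · exact h2.2
  rcases Cfsg.Agent.H925.orth_irreducible_fine (by rw [card_I8]; norm_num) hND hH' hirr with
    ⟨t', k', D, htk, hD, hHD, -⟩ | ⟨k', D, hk, hD, -, hHD⟩ | ⟨s', K, hs', hsn, hK, hKa, hHK⟩ |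
    ⟨n₁, n₂, e, P, -, -, -, h1, h2, h12, -, -, -, -, hHT⟩ | ⟨F₁, s', B, -, -, hs', hcard, -, -, hHF⟩ |
    ⟨s', m, R', hRH, -, hHR', habs, hR', -, hm, hsm, -, ht', -⟩ | ⟨k', t', e, P, E, hkt, hW⟩ | hS
  · -- (C2a)
    exfalso
    rw [card_I8] at htk
    have h2t := hD.decomp.decomp.two_le
    have hkd : k' < 6 := by
      by_contra hcon
      push Not at hcon
      have := Nat.mul_le_mul h2t hcon
      omega
    have hrt := decomp_le hD.decomp.decomp hHD hs hkd hsH
    have hk1 : k' = 1 := by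
      have h3 : k' < 2 := by
        by_contra hcon
        push Not at hcon
        have := Nat.mul_le_mul hrt hcon
        omega
      have := hD.decomp.decomp.pos
      omega
    subst hk1
    obtain rfl : t' = 8 := by omega
    have hs7 : s = 7 := by
      have h8 : s ≠ 8 := by
        intro h0
        have := hs.prime
        rw [h0] at this
        exact absurd this (by norm_num)
      omega
    have hk2 := h49 hs7
    obtain ⟨x, hx⟩ := exists_pow_six hs hd
    obtain ⟨y, hy⟩ := QuotientGroup.mk_surjective (x : T8 F)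
    have hyR : gl8 F y ∈ H := by
      rw [hHR]
      refine pre_of_mem ?_
      have h1 : mk8 F y = (x : T8 F) := hy
      rw [h1]
      exact x.2
    have hxo : orderOf (mk8 F y) = s ^ k := by
      have h1 : mk8 F y = (x : T8 F) := hy
      rw [h1, Subgroup.orderOf_coe, hx]
    -- a power of `y` of order `49`
    have hdy : s ^ k ∣ orderOf (gl8 F y) := by
      have hinj : Function.Injective (gl8 F) := (isometryGroup F (quadFormPlus 4 F)).subtype_injective.comp
        (Omega F (quadFormPlus 4 F)).subtype_injective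
      rw [orderOf_injective _ hinj, ← hxo]
      exact orderOf_map_dvd _ _
    obtain ⟨c, hc⟩ := hdy
    have hpos := orderOf_pos (gl8 F y)
    have hc0 : c ≠ 0 := by
      rintro rfl
      omega
    refine mono_kill (x := gl8 F y ^ c) ?_ ?_ (H.pow_mem hyR c) ⟨D, by rw [← coe_quadPlus]; exact hD, hHD⟩
    · rw [orderOf_pow_of_dvd hc0 (by rw [hc]; exact Dvd.intro_left _ rfl), hc, Nat.mul_div_cancel _ (Nat.pos_of_ne_zero hc0),
        hs7, hk2]
      norm_num
    · rw [← hs7]
      intro h1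
      have h2 := (hs.dvd_iff Nat.card_pos 1).1 (by rw [pow_one]; exact h1)
      exact absurd h2 (by norm_num)
  · exfalso
    rw [card_I8] at hk
    have := decomp_le hD hHD hs (by omega) hsH
    omega
  · -- (C3)
    right; right; left
    rw [card_I8] at hsn
    have hs2 : s' = 2 := by
      have h3 : s' ∣ 2 ^ 3 := by norm_num; exact hsn
      exact (Nat.prime_dvd_prime_iff_eq hs' Nat.prime_two).1 (hs'.dvd_of_dvd_pow h3)
    subst hs2
    refine fixJ_of_field hH hirr hs hsH hK ?_ hHK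
    rw [← coe_quadPlus]
    exact hKa
  · exact absurd (kill_tensor e P hHT h1 h2 h12 hs (by rw [card_I8]; norm_num) hsH) id
  · have hrp : PP p (a * 6) s := by
      rw [mul_comm]
      exact prim_pp h.hp.one_le h.prim
    exact absurd (kill_subfield hHF hs' hcard h.hp hF hrp (by rw [card_I8]; norm_num) (by norm_num) hsH) id
  · -- (C6)
    exfalso
    have h3 := symp_le hHR' habs hR' hm hsm ht' hs (by norm_num) hsH
    rw [card_I8] at h3 hsm
    have hs2 : s' = 2 := by
      have h4 : s' ∣ 2 ^ 3 := by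
        have h5 : (2 : ℕ) ^ 3 = s' ^ m := by rw [← hsm]; norm_num
        rw [h5]
        exact dvd_pow_self s' (by omega)
      exact (Nat.prime_dvd_prime_iff_eq hR'.prime Nat.prime_two).1 (hR'.prime.dvd_of_dvd_pow h4)
    subst hs2
    have hm3 : m = 3 := by
      have h5 : (2 : ℕ) ^ m = 2 ^ 3 := by rw [← hsm]; norm_num
      exact Nat.pow_right_injective (le_refl 2) h5
    subst hm3
    exact symp_kill' hF h hdH ⟨R', hRH, hHR', habs, hR', ht'⟩
  · exact absurd (kill_wreath hW hkt hs (by rw [card_I8]; norm_num) hsH) id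
  · exact Or.inr (Or.inr (Or.inr hS))

end Cfsg.Agent.H823.O8R
end

-- part: H886/O8R/OwnOrd
section
/-!
# S3691-O8R, box OWN-ORDERS: the orders of the subgroups of `PΩ₈⁺(q)` with socle `PSL₂(q³)` or `PSU₃(q)` (helper886)

* `card_aut_psl2`, `card_aut_psu3`: the orders of the automorphism groups;
* `dvd_psl2`, `dvd_psu3`: the order of a group `R` with a normal subgroup `S` of this type and trivial centralizer divides
  `3 a * (p ^ (3 a) * (p ^ (6 a) - 1))`, resp. `2 a * (p ^ (3 a) * (p ^ (2 a) - 1) * (p ^ (3 a) + 1))`;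
* `psl2_r4`, `psu3_r4`: a primitive prime divisor of `p ^ (4 a) - 1` does not divide `|R|`;
* `psu3_r3`: a primitive prime divisor of `p ^ (3 a) - 1` does not divide `|R|` (case `PSU₃(q)`);
* `psl2_p`: the `p`-part of `|R|` divides `3 a * p ^ (3 a)` (case `PSL₂(q³)`);
* `ord_psl2`, `ord_psu3`: the statements of `tools/plans/S3691_O8_stubs.lean.txt` (take `h.rb.hp h.rb.ha h.rb.prim`).
-/

set_option autoImplicit false
set_option linter.unusedSectionVars false

namespace Cfsg.Agent.H886.O8R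

open Cfsg Cfsg.Agent.OrdDiv Cfsg.Agent.H436

universe u v

/-- `|R|` divides `|Aut S|` for `S` normal in `R` with trivial centraliser -/
theorem dvd_aut {R : Type*} [Group R] [Finite R] (S : Subgroup R) [S.Normal]
    (hC : Subgroup.centralizer (S : Set R) = ⊥) : Nat.card R ∣ Nat.card (MulAut S) := by
  have hinj : Function.Injective (MulAut.conjNormal : R →* MulAut S) := by
    rw [← MonoidHom.ker_eq_bot_iff, eq_bot_iff]
    intro x hx
    rw [← hC, Subgroup.mem_centralizer_iff]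
    intro y hy
    have h1 := DFunLike.congr_fun ((MonoidHom.mem_ker).1 hx) ⟨y, hy⟩
    have h2 := congrArg Subtype.val h1
    rw [MulAut.conjNormal_apply, MulAut.one_apply] at h2
    exact (mul_inv_eq_iff_eq_mul.1 h2).symm
  rw [Nat.card_congr ((MulAut.conjNormal : R →* MulAut S).ofInjective hinj).toEquiv]
  exact Subgroup.card_subgroup_dvd_card _

theorem mulaut_congr {S T : Type*} [Group S] [Group T] (e : S ≃* T) : Nat.card (MulAut S) = Nat.card (MulAut T) :=
  Nat.card_congr (MulAut.congr e).toEquiv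

theorem card_pgl {F : Type} [Field F] [Fintype F] {n : ℕ} (hn : 2 ≤ n) : Nat.card (Matrix.ProjGenLinGroup (Fin n) F) =
    Nat.gcd n (Fintype.card F - 1) * Nat.card (Matrix.ProjectiveSpecialLinearGroup (Fin n) F) := by
  classical
  have : NeZero n := ⟨by omega⟩
  have h1 := Cfsg.Agent.S0243.result (F := F) rfl n hn
  have h2 : Nat.card (Matrix.ProjGenLinGroup (Fin n) F) * (Fintype.card F - 1) = Nat.card (Matrix.GeneralLinearGroup (Fin n) F) :=
    Cfsg.Agent.ClassicalGeometry.PSL2Basic.card_PGL_mul (Fin n) F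
  rw [Matrix.card_GL_field, ← h1] at h2
  have h3 : 0 < Fintype.card F - 1 := by
    have := Fintype.one_lt_card (α := F)
    omega
  have h4 : Nat.card (Matrix.ProjGenLinGroup (Fin n) F) * (Fintype.card F - 1) =
    (Nat.gcd n (Fintype.card F - 1) * Nat.card (Matrix.ProjectiveSpecialLinearGroup (Fin n) F)) *
      (Fintype.card F - 1) := by
    rw [h2]; ring
  exact Nat.eq_of_mul_eq_mul_right h3 h4

section aut

variable {S : Type u} [Group S] {p f : ℕ}

/-- the order of the automorphism group of `PSL₂(p ^ f)` -/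
theorem card_aut_psl2 (hp : p.Prime) (hf : 1 ≤ f) (h4 : 4 ≤ p ^ f) {K : Type} [Field K] [Fintype K]
    (hK : Fintype.card K = p ^ f) (e : S ≃* Matrix.ProjectiveSpecialLinearGroup (Fin 2) K) :
    Nat.card (MulAut S) = f * (p ^ f * (p ^ (2 * f) - 1)) := by
  have := Fact.mk hp
  have h1 := S0813.result (F := K) p f hf hK 2 le_rfl (fun _ => h4)
  rw [if_pos rfl, one_mul, card_pgl le_rfl] at h1
  have h2 := S0243.result (F := K) rfl 2 le_rfl
  rw [Fin.prod_univ_two] at h2
  have h3 : 0 < Fintype.card K - 1 := by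
    have := Fintype.one_lt_card (α := K)
    omega
  rw [mulaut_congr e, h1]
  congr 1
  refine Nat.eq_of_mul_eq_mul_left h3 ?_
  have h5 : (Fintype.card K - 1) * (Nat.gcd 2 (Fintype.card K - 1) *
      Nat.card (Matrix.ProjectiveSpecialLinearGroup (Fin 2) K)) =
      (Fintype.card K ^ 2 - Fintype.card K ^ (0 : ℕ)) * (Fintype.card K ^ 2 - Fintype.card K ^ (1 : ℕ)) := by
    rw [mul_left_comm]
    exact h2
  rw [h5, hK, pow_zero, pow_one, ← pow_mul, mul_comm f 2]
  have h6 : p ^ (2 * f) - p ^ f = (p ^ f - 1) * p ^ f := by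
    rw [Nat.sub_mul, one_mul, ← pow_add, two_mul]
  rw [h6]
  ring

/-- the order of the automorphism group of `PSU₃(p ^ f)` -/
theorem card_aut_psu3 (hp : p.Prime) (hf : 1 ≤ f) (h3 : 3 ≤ p ^ f) {K : Type} [Field K] [Fintype K]
    (hK : Fintype.card K = (p ^ f) ^ 2) (e : S ≃* PSU 3 K (p ^ f)) :
    Nat.card (MulAut S) = 2 * f * (p ^ (3 * f) * (p ^ (2 * f) - 1) * (p ^ (3 * f) + 1)) := by
  have := Fact.mk hp
  have h1 := S0815.result (F := K) p f hf rfl hK 3 le_rfl (fun h => by omega)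
  have h2 := psu_eq (F := K) (n := 3) hK le_rfl
  change Nat.gcd 3 (p ^ f + 1) * (p ^ f + 1) * Nat.card (PSU 3 K (p ^ f)) =
    (p ^ f) ^ (3 * (3 - 1) / 2) * prU (p ^ f) 3 at h2
  have h4 : prU (p ^ f) 3 = (p ^ f + 1) * ((p ^ f) ^ 2 - 1) * ((p ^ f) ^ 3 + 1) := by
    simp only [prU, List.range_succ, _root_.Nat.beq_eq, _root_.List.range_zero, _root_.List.nil_append, _root_.List.cons_append, _root_.List.map_cons, _root_.Nat.zero_mod, ↓ _root_.reduceIte, _root_.zero_add, _root_.pow_one, _root_.Nat.mod_succ, _root_.one_ne_zero, _root_.Nat.reduceAdd, _root_.Nat.mod_self, _root_.List.map_nil, _root_.List.prod_cons, _root_.List.prod_nil, _root_.mul_one]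
    ring
  rw [h4] at h2
  rw [mulaut_congr e, h1]
  have h5 : 0 < p ^ f + 1 := Nat.succ_pos _
  have h6 : Nat.gcd 3 (p ^ f + 1) * Nat.card (PSU 3 K (p ^ f)) =
      p ^ (3 * f) * (p ^ (2 * f) - 1) * (p ^ (3 * f) + 1) := by
    refine Nat.eq_of_mul_eq_mul_left h5 ?_
    rw [show (p ^ f + 1) * (Nat.gcd 3 (p ^ f + 1) * Nat.card (PSU 3 K (p ^ f))) =
      Nat.gcd 3 (p ^ f + 1) * (p ^ f + 1) * Nat.card (PSU 3 K (p ^ f)) by ring, h2]
    rw [show 3 * (3 - 1) / 2 = 3 by norm_num, ← pow_mul, ← pow_mul, mul_comm f 2, mul_comm f 3]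
    ring
  rw [← h6]
  ring

end aut

section
variable {R : Type u} [Group R] [Finite R] (S : Subgroup R) [S.Normal] {p a : ℕ}

include S in
/-- **`PSL₂(q³)`** -/
theorem dvd_psl2 (hp : p.Prime) (ha : 1 ≤ a) (hC : Subgroup.centralizer (S : Set R) = ⊥)
    (h : ∃ (K : Type) (_ : Field K) (_ : Fintype K), Fintype.card K = p ^ (3 * a) ∧
      Nonempty (S ≃* Matrix.ProjectiveSpecialLinearGroup (Fin 2) K)) :
    Nat.card R ∣ 3 * a * (p ^ (3 * a) * (p ^ (6 * a) - 1)) := by
  obtain ⟨K, i1, i2, hK, ⟨e⟩⟩ := h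
  have h1 := dvd_aut S hC
  have h4 : 4 ≤ p ^ (3 * a) := by
    calc 4 ≤ 2 ^ 3 := by norm_num
      _ ≤ p ^ 3 := Nat.pow_le_pow_left hp.two_le 3
      _ ≤ p ^ (3 * a) := Nat.pow_le_pow_right hp.pos (by omega)
  rw [card_aut_psl2 hp (by omega) h4 hK e] at h1
  rwa [show 2 * (3 * a) = 6 * a by ring] at h1

include S in
/-- **`PSU₃(q)`** -/
theorem dvd_psu3 (hp : p.Prime) (ha : 1 ≤ a) (h3 : 3 ≤ p ^ a) (hC : Subgroup.centralizer (S : Set R) = ⊥)
    (h : OrdDiv.Real (.psu 3 (p ^ a)) S) :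
    Nat.card R ∣ 2 * a * (p ^ (3 * a) * (p ^ (2 * a) - 1) * (p ^ (3 * a) + 1)) := by
  obtain ⟨K, i1, i2, hK, ⟨e⟩⟩ := h
  have h1 := dvd_aut S hC
  rwa [card_aut_psu3 hp ha h3 hK e] at h1

theorem lt_prim {e r : ℕ} (hp : 1 ≤ p) (h : Prim p e r) : e < r := by
  have h1 := (h.dvd_iff (r - 1)).1 (by
    have := Fact.mk h.prime
    have h2 : ((p : ℕ) : ZMod r) ≠ 0 := by
      rw [Ne, ZMod.natCast_eq_zero_iff]
      exact h.not_dvd
    have h3 := ZMod.pow_card_sub_one_eq_one h2
    rw [← Nat.cast_pow] at h3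
    have h4 : 1 ≤ p ^ (r - 1) := Nat.one_le_pow _ _ hp
    rw [← ZMod.natCast_eq_zero_iff, Nat.cast_sub h4, h3, Nat.cast_one, sub_self])
  have h2 := h.prime.two_le
  have h3 := Nat.le_of_dvd (by omega) h1
  omega

/-- a primitive prime divisor of `p ^ (4 a) - 1` does not divide `|R|`, case `PSL₂(q³)` -/
theorem psl2_r4 {r : ℕ} (hp : p.Prime) (ha : 1 ≤ a) (hr : Prim p (4 * a) r)
    (h : Nat.card R ∣ 3 * a * (p ^ (3 * a) * (p ^ (6 * a) - 1))) : ¬ r ∣ Nat.card R := by
  intro hd
  have h0 : 4 * a < r := lt_prim hp.one_le hr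
  have h1 := hd.trans h
  rcases hr.prime.dvd_mul.1 h1 with h2 | h2
  · have := Nat.le_of_dvd (by omega) h2
    omega
  · rcases hr.prime.dvd_mul.1 h2 with h3 | h3
    · exact hr.not_dvd_pow _ h3
    · rw [hr.dvd_iff] at h3
      obtain ⟨c, hc⟩ := h3
      have h5 : 6 = 4 * c := by
        have h6 : a * 6 = a * (4 * c) := by rw [mul_comm, hc]; ring
        exact Nat.eq_of_mul_eq_mul_left (by omega) h6
      omega

/-- the `p`-part of `|R|`, case `PSL₂(q³)` -/
theorem psl2_p (hp : p.Prime) (ha : 1 ≤ a)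
    (h : Nat.card R ∣ 3 * a * (p ^ (3 * a) * (p ^ (6 * a) - 1))) {n : ℕ} (hn : p ^ (3 * a + n) ∣ Nat.card R) :
    p ^ n ∣ 3 * a := by
  have h1 := hn.trans h
  have h2 : Nat.Coprime (p ^ (3 * a + n)) (p ^ (6 * a) - 1) := by
    refine Nat.Coprime.pow_left _ ((Nat.Prime.coprime_iff_not_dvd hp).2 fun h3 => ?_)
    have h4 : p ∣ p ^ (6 * a) := dvd_pow_self _ (by omega)
    have h5 : 1 ≤ p ^ (6 * a) := Nat.one_le_pow _ _ hp.pos
    have h6 : p ∣ 1 := by
      have := (Nat.dvd_sub_iff_right h5 h4).1 h3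
      exact this
    exact hp.one_lt.ne' (Nat.dvd_one.1 h6)
  rw [show 3 * a * (p ^ (3 * a) * (p ^ (6 * a) - 1)) = (p ^ (3 * a) * (3 * a)) * (p ^ (6 * a) - 1) by ring] at h1
  have h3 := h2.dvd_of_dvd_mul_right h1
  rw [pow_add] at h3
  exact Nat.dvd_of_mul_dvd_mul_left (pow_pos hp.pos _) h3

/-- a primitive prime divisor of `p ^ (4 a) - 1` does not divide `|R|`, case `PSU₃(q)` -/
theorem psu3_r4 {r : ℕ} (hp : p.Prime) (ha : 1 ≤ a) (hr : Prim p (4 * a) r)
    (h : Nat.card R ∣ 2 * a * (p ^ (3 * a) * (p ^ (2 * a) - 1) * (p ^ (3 * a) + 1))) : ¬ r ∣ Nat.card R := by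
  intro hd
  have h0 : 4 * a < r := lt_prim hp.one_le hr
  have h1 := hd.trans h
  rcases hr.prime.dvd_mul.1 h1 with h2 | h2
  · have := Nat.le_of_dvd (by omega) h2
    omega
  rcases hr.prime.dvd_mul.1 h2 with h2 | h2
  · rcases hr.prime.dvd_mul.1 h2 with h3 | h3
    · exact hr.not_dvd_pow _ h3
    · rw [hr.dvd_iff] at h3
      have := Nat.le_of_dvd (by omega) h3
      omega
  · refine hr.not_dvd_add (fun h3 => ?_) h2
    obtain ⟨c, hc⟩ := h3
    have h5 : 6 = 4 * c := by
      have h6 : a * 6 = a * (4 * c) := by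
        calc a * 6 = 2 * (3 * a) := by ring
          _ = a * (4 * c) := by rw [hc]; ring
      exact Nat.eq_of_mul_eq_mul_left (by omega) h6
    omega

/-- a primitive prime divisor of `p ^ (3 a) - 1` does not divide `|R|`, case `PSU₃(q)` -/
theorem psu3_r3 {t : ℕ} (hp : p.Prime) (ha : 1 ≤ a) (ht : Prim p (3 * a) t)
    (h : Nat.card R ∣ 2 * a * (p ^ (3 * a) * (p ^ (2 * a) - 1) * (p ^ (3 * a) + 1))) : ¬ t ∣ Nat.card R := by
  intro hd
  have h0 : 3 * a < t := lt_prim hp.one_le ht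
  have h1 := hd.trans h
  rcases ht.prime.dvd_mul.1 h1 with h2 | h2
  · have := Nat.le_of_dvd (by omega) h2
    omega
  rcases ht.prime.dvd_mul.1 h2 with h2 | h2
  · rcases ht.prime.dvd_mul.1 h2 with h3 | h3
    · exact ht.not_dvd_pow _ h3
    · rw [ht.dvd_iff] at h3
      have := Nat.le_of_dvd (by omega) h3
      omega
  · have h3 : t ∣ p ^ (3 * a) - 1 := ht.dvd dvd_rfl
    have h4 : t ∣ 2 := by
      have h5 : p ^ (3 * a) + 1 = (p ^ (3 * a) - 1) + 2 := by
        have := Nat.one_le_pow (3 * a) p hp.pos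
        omega
      rw [h5] at h2
      exact (Nat.dvd_add_right h3).1 h2
    have := Nat.le_of_dvd (by norm_num) h4
    omega

end

/-! ### the statements of the stub file -/

section stubs

variable {R : Type} [Group R] [Finite R] {p a : ℕ}

/-- **`ord_psl2`** -/
theorem ord_psl2 {r : ℕ} (hp : p.Prime) (ha : 1 ≤ a) (hr : Prim p (4 * a) r) (S : Subgroup R) [S.Normal]
    (hC : Subgroup.centralizer (S : Set R) = ⊥) {K : Type} [Field K] [Fintype K] (hK : Fintype.card K = p ^ (3 * a))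
    (e : S ≃* Matrix.ProjectiveSpecialLinearGroup (Fin 2) K) :
    ¬ r ∣ Nat.card R ∧ ¬ p ^ (6 * a + 2) ∣ Nat.card R := by
  have h := dvd_psl2 S hp ha hC ⟨K, inferInstance, inferInstance, hK, ⟨e⟩⟩
  refine ⟨psl2_r4 hp ha hr h, fun h1 => ?_⟩
  rw [show 6 * a + 2 = 3 * a + (3 * a + 2) by ring] at h1
  have h2 := Nat.le_of_dvd (by omega) (psl2_p hp ha h h1)
  have h3 : 3 * a + 2 < p ^ (3 * a + 2) := Nat.lt_pow_self hp.one_lt
  omega

/-- **`ord_psu3`** -/
theorem ord_psu3 {r t : ℕ} (hp : p.Prime) (ha : 1 ≤ a) (h3 : 3 ≤ p ^ a) (hr : Prim p (4 * a) r)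
    (ht : Prim p (3 * a) t) (S : Subgroup R) [S.Normal]
    (hC : Subgroup.centralizer (S : Set R) = ⊥) (hS : IsNamed (.psu 3 (p ^ a)) S) :
    ¬ r ∣ Nat.card R ∧ ¬ t ∣ Nat.card R := by
  have h := dvd_psu3 S hp ha h3 hC hS.real
  exact ⟨psu3_r4 hp ha hr h, psu3_r3 hp ha ht h⟩

end stubs

end Cfsg.Agent.H886.O8R
end

-- part: H823/O8R/Over
section
/-!
# S3691, row `PΩ⁺₈(q)`, `q ≥ 16`: the overgroups of order divisible by `r₆` and by `r₄` or `r₃` (helper823)
-/

set_option autoImplicit false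
set_option linter.unusedSectionVars false

namespace Cfsg.Agent.H823.O8R

open Module QuadraticMap Cfsg Cfsg.Geo Cfsg.Agent.LieClassical.OrthCore Cfsg.Agent.H955 Cfsg.Agent.H954.TSing
open Cfsg.Agent.LieClassical.OmegaReindex Cfsg.Agent.OrdDiv Cfsg.Agent.H915.LD Cfsg.Agent.H902 Cfsg.Agent.H902.Names
open Cfsg.Agent.H436 Cfsg.Agent.H264.GN Cfsg.Agent.H915.GN Cfsg.Agent.H264.FKS
open Cfsg.Agent.H951 (fx cm Inv)
open Cfsg.Agent.H884.El
open Cfsg.Agent.H708.O8 (I8 T8 RB)
open Cfsg.Agent.H823.O8S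
open scoped MatrixGroups Matrix Pointwise

section even

open Polynomial

theorem even_of_irr {F V : Type*} [Field F] [AddCommGroup V] [Module F V] [FiniteDimensional F V] {J : Module.End F V}
    {c d : F} (hJ : J * J = c • J - d • (1 : Module.End F V)) (hirr : ∀ z : F, z * z - c * z + d ≠ 0) :
    Even (finrank F V) := by
  obtain ⟨f, hf⟩ : ∃ f : F[X], f = X ^ 2 - C c * X + C d := ⟨_, rfl⟩
  have hdeg : f.natDegree = 2 := by
    rw [hf]
    compute_degree!
  have hmon : f.Monic := by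
    rw [hf]
    monicity!
  have hfi : Irreducible f := by
    rw [Polynomial.irreducible_iff_roots_eq_zero_of_degree_le_three (by rw [hdeg]) (by rw [hdeg]; norm_num)]
    rw [Multiset.eq_zero_iff_forall_notMem]
    intro z hz
    rw [mem_roots hmon.ne_zero, IsRoot.def, hf] at hz
    simp only [eval_add, eval_sub, eval_pow, eval_X, eval_mul, eval_C] at hz
    exact hirr z (by rw [← hz]; ring)
  have hfact : Fact (Irreducible f) := ⟨hfi⟩
  have h0 : aeval J f = 0 := by
    rw [hf]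
    simp only [map_add, map_sub, map_pow, aeval_X, map_mul, aeval_C]
    rw [pow_two, hJ, Algebra.algebraMap_eq_smul_one, Algebra.algebraMap_eq_smul_one, smul_mul_assoc, one_mul]
    abel
  let φ : AdjoinRoot f →ₐ[F] Module.End F V := Ideal.Quotient.liftₐ (Ideal.span {f}) (aeval J) (fun a ha => by
    obtain ⟨g, rfl⟩ := Ideal.mem_span_singleton'.1 ha
    rw [map_mul, h0, mul_zero])
  let _ : Module (AdjoinRoot f) V := Module.compHom V φ.toRingHom
  have htow : IsScalarTower F (AdjoinRoot f) V := ⟨fun a k v => by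
    change φ (a • k) v = a • φ k v
    rw [map_smul]
    rfl⟩
  have hK : finrank F (AdjoinRoot f) = 2 := by
    rw [(AdjoinRoot.powerBasis hmon.ne_zero).finrank, AdjoinRoot.powerBasis_dim, hdeg]
  have h1 := Module.finrank_mul_finrank F (AdjoinRoot f) V
  rw [hK] at h1
  rw [← h1]
  exact even_two_mul _

end even

variable {F : Type} [Field F] [Fintype F] {p a r b s k t : ℕ} {R : Subgroup (T8 F)}

theorem fld_even {J : Module.End F (I8 → F)} {c d : F} (f : Fld J c d) {W : Submodule F (I8 → F)}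
    (hW : ∀ w ∈ W, J w ∈ W) : Even (finrank F W) := by
  refine even_of_irr (J := J.restrict hW) (c := c) (d := d) ?_ f.irr
  ext w : 2
  have h1 := (congrArg (fun g : Module.End F (I8 → F) => (g w :)) f.sq :)
  exact h1

theorem Nm.pp3 (hF : Nat.card F = p ^ a) (h : Nm p a r b s k t) : PP (Nat.card F) 3 t := by
  rw [hF]
  refine PP.of_pow ?_ h.rb.ha
  rw [mul_comm]
  exact prim_pp h.rb.hp.one_le h.t

theorem Nm.pp4 (hF : Nat.card F = p ^ a) (h : Nm p a r b s k t) : PP (Nat.card F) 4 r := by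
  rw [hF]
  refine PP.of_pow ?_ h.rb.ha
  rw [mul_comm]
  exact prim_pp h.rb.hp.one_le h.rb.prim

theorem Nm.hk (h : Nm p a r b s k t) : k ≠ 0 := by
  rcases h.rk.cases with h1 | h1 <;> omega

/-- a field of order `q²` is not normalised by a group of order divisible by `r₃` -/
theorem not_dvd_of_fixJ (hF : Nat.card F = p ^ a) (h : Nm p a r b s k t) (hJ : FixJ R) : ¬ t ∣ Nat.card R := by
  intro ht
  obtain ⟨J, c, d, f, hH⟩ := hJ
  have hfin : Finite (GL I8 F) := inferInstance
  have hQ : Nondeg (quadPlus 4 F) := nondeg_iff.2 quadPlus_nondegenerate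
  have hH' : pre (quadFormPlus 4 F) R ≤ isometryGroup F (⇑(quadPlus 4 F)) := by
    rw [coe_quadPlus]
    exact H884.El.pre_le (Q := quadFormPlus 4 F) (M := R)
  have hpp := h.pp3 hF
  obtain ⟨g, hgH, hiso, hgt, hg1⟩ := exists_elt hH' hpp (by norm_num) (ht.trans card_dvd_pre)
  have hodd : Odd t := hpp.odd (by norm_num)
  refine hiso.no_quadratic hQ (lin_ne_one hg1) hpp (by decide) le_rfl ?_ (J := J) ?_ ?_
  · rw [finrank8]; norm_num
  · intro v
    exact (comm_of_odd f (hH hgH) hodd hgt v).symm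
  · intro W hW
    exact fld_even f hW

/-! ### images under automorphisms -/

theorem card_map (α : MulAut (T8 F)) : Nat.card (R.map α.toMonoidHom) = Nat.card R :=
  (Nat.card_congr (R.equivMapOfInjective α.toMonoidHom α.injective).toEquiv).symm

theorem map_ne_top (hR : R ≠ ⊤) (α : MulAut (T8 F)) : R.map α.toMonoidHom ≠ ⊤ := by
  intro h
  apply hR
  apply Subgroup.eq_top_of_card_eq
  rw [← card_map α, h, Subgroup.card_top]

theorem map_map' (α β : MulAut (T8 F)) : (R.map α.toMonoidHom).map β.toMonoidHom = R.map (β * α).toMonoidHom := by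
  simp only [Subgroup.map_map]
  rfl

/-- type `Ω₇` -/
def HasPt (R : Subgroup (T8 F)) : Prop :=
  ∃ (α : MulAut (T8 F)) (w : I8 → F), quadFormPlus 4 F w ≠ 0 ∧
    pre (quadFormPlus 4 F) (R.map α.toMonoidHom) ≤ SW (Submodule.span F {w}) ∧
    HasSieg (R.map α.toMonoidHom) (Submodule.span F {w})

/-- type `Ω₆⁻` -/
def HasPl (R : Subgroup (T8 F)) : Prop :=
  ∃ (α : MulAut (T8 F)) (W : Submodule F (I8 → F)), finrank F W = 2 ∧ (∀ w ∈ W, quadFormPlus 4 F w = 0 → w = 0) ∧
    pre (quadFormPlus 4 F) (R.map α.toMonoidHom) ≤ SW W ∧ HasSieg (R.map α.toMonoidHom) W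

theorem HasPt.of_map {α : MulAut (T8 F)} (h : HasPt (R.map α.toMonoidHom)) : HasPt R := by
  obtain ⟨β, w, h1, h2, h3⟩ := h
  rw [map_map'] at h2 h3
  exact ⟨β * α, w, h1, h2, h3⟩

theorem HasPl.of_map {α : MulAut (T8 F)} (h : HasPl (R.map α.toMonoidHom)) : HasPl R := by
  obtain ⟨β, w, h1, h4, h2, h3⟩ := h
  rw [map_map'] at h2 h3
  exact ⟨β * α, w, h1, h4, h2, h3⟩

/-- the socle has the order of `Ω₇(q)` -/
def Sp6 (p a : ℕ) (S : Type) [Group S] : Prop :=
  (∃ (K : Type) (_ : Field K) (_ : Fintype K), Fintype.card K = p ^ a ∧ Nonempty (S ≃* PSp 3 K)) ∨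
      (p ≠ 2 ∧ ∃ (K : Type) (_ : Field K) (_ : Fintype K), Fintype.card K = p ^ a ∧
        Nonempty (S ≃* POmega K (quadFormOdd 3 K)))

theorem Sp6.congr {S S' : Type} [Group S] [Group S'] (h : Sp6 p a S) (e : S ≃* S') : Sp6 p a S' := by
  rcases h with ⟨K, i1, i2, h1, ⟨f⟩⟩ | ⟨hp, K, i1, i2, h1, ⟨f⟩⟩
  · exact Or.inl ⟨K, i1, i2, h1, ⟨e.symm.trans f⟩⟩
  · exact Or.inr ⟨hp, K, i1, i2, h1, ⟨e.symm.trans f⟩⟩

/-- the open pieces -/
structure Pc (F : Type) [Field F] [Fintype F] (p a r b s k t : ℕ) : Prop where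
  tri_J : ∀ {R : Subgroup (T8 F)}, FixJ R → ∃ α : MulAut (T8 F), FixP (R.map α.toMonoidHom)
  spin : ∀ {R : Subgroup (T8 F)} (_ : R ≠ ⊤) (S : Subgroup R) [S.Normal] (_ : IsSimpleGroup S)
    (_ : Subgroup.centralizer (S : Set R) = ⊥) {P : Subgroup (GL I8 F)}
    (_ : IsResidualCore (pre (quadFormPlus 4 F) R) P) (_ : S ≃* Soc P) (_ : Sp6 p a S),
    ∃ α : MulAut (T8 F), FixV (R.map α.toMonoidHom)
  three : ∀ {R : Subgroup (T8 F)}, (∀ α : MulAut (T8 F), FixV (R.map α.toMonoidHom)) → ¬ p ^ (6 * a + 2) ∣ Nat.card R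
  cross : ∀ {R : Subgroup (T8 F)} (S : Subgroup R) [S.Normal] (_ : IsSimpleGroup S) (_ : ¬ IsMulCommutative S)
    (_ : Subgroup.centralizer (S : Set R) = ⊥) {P : Subgroup (GL I8 F)}
    (_ : IsResidualCore (pre (quadFormPlus 4 F) R) P) (_ : S ≃* Soc P) (_ : ¬ IsLieTypeChar p (Soc P))
    (_ : s ^ k ∣ Nat.card R) (_ : r ∣ Nat.card R ∨ t ∣ Nat.card R), False
  six : ∀ {R : Subgroup (T8 F)} {W : Submodule F (I8 → F)} (_ : finrank F W = 2)
    (_ : ∀ w ∈ W, quadFormPlus 4 F w = 0 → w = 0) (_ : pre (quadFormPlus 4 F) R ≤ SW W)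
    (_ : s ^ k ∣ Nat.card R) (_ : r ∣ Nat.card R), HasSieg R W
  sieg_of_order : ∀ {R : Subgroup (T8 F)} {w : I8 → F} (_ : quadFormPlus 4 F w ≠ 0)
    (_ : pre (quadFormPlus 4 F) R ≤ SW (Submodule.span F {w})) (S : Subgroup R) (_ : Sp6 p a S),
    HasSieg R (Submodule.span F {w})
  ord_fixP : ∀ {R : Subgroup (T8 F)}, FixP R →
    ¬ t ∣ Nat.card R ∧ (Nat.card R).factorization p ≤ 6 * a + (if p = 2 then 1 else 0)

/-- **the residual class** -/
theorem res_case (hF : Nat.card F = p ^ a) (h : Nm p a r b s k t) (pc : Pc F p a r b s k t) (hR : R ≠ ⊤)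
    (hs : s ^ k ∣ Nat.card R) (hrt : r ∣ Nat.card R ∨ t ∣ Nat.card R ∧ p ^ (6 * a + 2) ∣ Nat.card R)
    (hres : InOrthogonalResidualClass (pre (quadFormPlus 4 F) R)) : HasPt R := by
  obtain ⟨P, hP, -⟩ := hres
  obtain ⟨S, hSn, hS, hna, hC, ⟨e⟩⟩ := exists_res_plus (n := 4) le_rfl hP
  have hsR : s ∣ Nat.card R := (dvd_pow_self s h.hk).trans hs
  have key : Sp6 p a S → HasPt R := by
    intro hS6
    obtain ⟨α, w, hw, hle⟩ := pc.spin hR S hS hC hP e hS6
    refine ⟨α, w, hw, hle, ?_⟩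
    obtain ⟨φ, -⟩ : ∃ φ : R ≃* R.map α.toMonoidHom, φ = R.equivMapOfInjective α.toMonoidHom α.injective := ⟨_, rfl⟩
    exact pc.sieg_of_order hw hle (S.map φ.toMonoidHom)
      (hS6.congr (S.equivMapOfInjective φ.toMonoidHom φ.injective))
  by_cases hL : IsLieTypeChar p (Soc P)
  · rcases H911.O8S.own hF h.rk.weak hR S hS hna hC hP e hL hsR with ⟨E, i1, i2, hE, ⟨f⟩⟩ | hN | h6 | h6
    · exfalso
      obtain ⟨h1, h2⟩ := H886.O8R.ord_psl2 h.rb.hp h.rb.ha h.rb.prim S hC hE f
      rcases hrt with h3 | ⟨-, h3⟩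
      · exact h1 h3
      · exact h2 h3
    · exfalso
      obtain ⟨h1, h2⟩ := H886.O8R.ord_psu3 h.rb.hp h.rb.ha (by have := h.q16; omega) h.rb.prim h.t S hC hN
      rcases hrt with h3 | ⟨h3, -⟩
      · exact h1 h3
      · exact h2 h3
    · exact key (Or.inl h6)
    · exact key (Or.inr h6)
  · exfalso
    refine pc.cross S hS hna hC hP e hL hs ?_
    rcases hrt with h3 | ⟨h3, -⟩
    · exact Or.inl h3
    · exact Or.inr h3

/-- **(F36)** -/
theorem f36 (hF : Nat.card F = p ^ a) (h : Nm p a r b s k t) (pc : Pc F p a r b s k t) (hR : R ≠ ⊤)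
    (hs : s ^ k ∣ Nat.card R) (ht : t ∣ Nat.card R) (hp : p ^ (6 * a + 2) ∣ Nat.card R) : HasPt R := by
  by_contra hcon
  refine pc.three (fun α => ?_) hp
  have hc : Nat.card (R.map α.toMonoidHom) = Nat.card R := card_map α
  rcases g6 hF h.rk (R := R.map α.toMonoidHom) (by rw [hc]; exact hs) with h1 | h1 | h1 | h1
  · exact h1
  · exfalso
    exact (pc.ord_fixP h1).1 (by rw [hc]; exact ht)
  · exfalso
    exact not_dvd_of_fixJ hF h h1 (by rw [hc]; exact ht)
  · exfalso
    refine hcon (res_case hF h pc (map_ne_top hR α) (by rw [hc]; exact hs) (Or.inr ?_) h1).of_map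
    rw [hc]
    exact ⟨ht, hp⟩

/-- an element of odd order which stabilises a nonsingular point fixes it -/
theorem fx_of_SW {y : GL I8 F} (hy : y ∈ isometryGroup F (quadFormPlus 4 F)) {w : I8 → F} (hw : quadFormPlus 4 F w ≠ 0)
    (h : y ∈ SW (Submodule.span F {w})) (hodd : Odd (orderOf y)) : w ∈ fx (_root_.Cfsg.Agent.H884.El.lin y) := by
  have h1 : _root_.Cfsg.Agent.H884.El.lin y w ∈ Submodule.span F {w} := by
    rw [← mem_SW.1 h]
    exact ⟨w, Submodule.mem_span_singleton_self w, rfl⟩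
  obtain ⟨c, hc⟩ := Submodule.mem_span_singleton.1 h1
  have h2 : quadFormPlus 4 F (c • w) = quadFormPlus 4 F w := by
    rw [hc]
    exact iso_of_mem hy w
  have h3 : c * c = 1 := by
    rw [← coe_quadPlus, QuadraticMap.map_smul, smul_eq_mul] at h2
    rw [← coe_quadPlus] at hw
    exact mul_right_cancel₀ hw (by rw [h2, one_mul])
  have hpow : ∀ n : ℕ, _root_.Cfsg.Agent.H884.El.lin (y ^ n) w = c ^ n • w := by
    intro n
    induction n with
    | zero => rw [pow_zero, pow_zero, lin_one, one_smul]; rfl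
    | succ n ih => rw [pow_succ', lin_mul_apply, ih, map_smul, ← hc, smul_smul, pow_succ]
  have hw0 : w ≠ 0 := by
    rintro rfl
    apply hw
    rw [← coe_quadPlus, QuadraticMap.map_zero]
  obtain ⟨m, hm⟩ := hodd
  have h4 : c ^ orderOf y • w = w := by
    rw [← hpow, pow_orderOf_eq_one, lin_one]
    rfl
  rw [hm, pow_succ, pow_mul, pow_two, h3, one_pow, one_mul] at h4
  rw [H951.mem_fx, ← hc]
  exact h4

/-- **(F64)** -/
theorem f64 (hF : Nat.card F = p ^ a) (h : Nm p a r b s k t) (pc : Pc F p a r b s k t) (hR : R ≠ ⊤)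
    (hs : s ^ k ∣ Nat.card R) (hr : r ∣ Nat.card R) : HasPt R ∨ HasPl R := by
  -- an image which fixes a plane
  have kP : ∀ α : MulAut (T8 F), FixP (R.map α.toMonoidHom) → HasPl R := by
    rintro α ⟨W, hW, hW0, hle⟩
    refine ⟨α, W, hW, hW0, hle, pc.six hW hW0 hle ?_ ?_⟩
    · rw [card_map]; exact hs
    · rw [card_map]; exact hr
  have kJ : ∀ α : MulAut (T8 F), FixJ (R.map α.toMonoidHom) → HasPl R := by
    intro α hJ
    obtain ⟨β, hβ⟩ := pc.tri_J hJ
    rw [map_map'] at hβ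
    exact kP _ hβ
  have kR : ∀ α : MulAut (T8 F), InOrthogonalResidualClass (pre (quadFormPlus 4 F) (R.map α.toMonoidHom)) → HasPt R := by
    intro α h1
    exact (res_case hF h pc (map_ne_top hR α) (by rw [card_map]; exact hs) (Or.inl (by rw [card_map]; exact hr)) h1).of_map
  have hid : R.map (1 : MulAut (T8 F)).toMonoidHom = R := Subgroup.map_id R
  rcases g6 hF h.rk (R := R.map (1 : MulAut (T8 F)).toMonoidHom) (by rw [card_map]; exact hs) with h1 | h1 | h1 | h1
  · rw [hid] at h1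
    obtain ⟨α, y, hy, hyr, hyf⟩ := H708.Rg.tri_V hF h (Or.inl h1) hr
    rcases g6 hF h.rk (R := R.map α.toMonoidHom) (by rw [card_map]; exact hs) with h2 | h2 | h2 | h2
    · exfalso
      obtain ⟨w, hw, hle⟩ := h2
      have h3 := fx_of_SW (H884.El.pre_le (Q := quadFormPlus 4 F) hy) hw (hle hy)
        (by rw [hyr]; exact (h.pp4 hF).odd (by norm_num))
      rw [hyf, Submodule.mem_bot] at h3
      apply hw
      rw [h3, ← coe_quadPlus, QuadraticMap.map_zero]
    · exact Or.inr (kP α h2)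
    · exact Or.inr (kJ α h2)
    · exact Or.inl (kR α h2)
  · exact Or.inr (kP 1 h1)
  · exact Or.inr (kJ 1 h1)
  · exact Or.inl (kR 1 h1)

end Cfsg.Agent.H823.O8R
end

private theorem dce_8b0dcf2e067f : _root_.True := by
  try have : _root_.True := by simp only [_root_.Cfsg.Agent.OrdDiv.prU.eq_1]
  exact _root_.True.intro
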